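import Mathlib
import Cfsg.Prelude.Def_HallClasses
import Cfsg.Agent.Core.SylowOf
import Cfsg.Agent.H2.Subnormal

set_option autoImplicit false

namespace Cfsg.Agent.Spec

open Subgroup Equiv Equiv.Perm
open scoped Pointwise

section Pair
variable {α : Type} [Fintype α] [DecidableEq α]

/-- an involution with at most one fixed point -/
structure Pairing (τ : Perm α) : Prop where
  inv : ∀ a, τ (τ a) = a
  fix : ∀ a b, τ a = a → τ b = b → a = b

omit [DecidableEq α] in
theorem exists_pairing : ∃ τ : Perm α, Pairing τ := by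
  let e := Fintype.equivFin α
  refine ⟨e.symm.permCongr Fin.revPerm, fun a => by simp, fun a b ha hb => ?_⟩
  simp only [permCongr_apply, symm_symm, Fin.revPerm_apply, symm_apply_eq] at ha hb
  apply e.injective
  have h1 := congrArg Fin.val ha
  have h2 := congrArg Fin.val hb
  rw [Fin.val_rev] at h1 h2
  have := (e a).2
  have := (e b).2
  ext; omega

variable {τ : Perm α}

omit [Fintype α] in
theorem Pairing.swap_comm (h : Pairing τ) (a : α) : Commute (swap a (τ a)) τ := by
  rw [Commute, SemiconjBy, mul_swap_eq_swap_mul, h.inv, Equiv.swap_comm]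

theorem Pairing.swap_mem (h : Pairing τ) {a : α} (ha : τ a ≠ a) :
    swap a (τ a) ∈ τ.cycleFactorsFinset := by
  rw [mem_cycleFactorsFinset_iff]
  refine ⟨isCycle_swap ha.symm, fun x hx => ?_⟩
  rw [support_swap ha.symm] at hx
  simp only [Finset.mem_insert, Finset.mem_singleton] at hx
  rcases hx with rfl | rfl
  · simp
  · simp [h.inv]

theorem Pairing.eq_swap (h : Pairing τ) {c : Perm α} (hc : c ∈ τ.cycleFactorsFinset) :
    ∃ a, τ a ≠ a ∧ c = swap a (τ a) := by
  have hc' := mem_cycleFactorsFinset_iff.mp hc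
  obtain ⟨a, ha, -⟩ := hc'.1
  have ha' : a ∈ c.support := mem_support.mpr ha
  have h1 : τ a ≠ a := by rw [← hc'.2 a ha']; exact ha
  refine ⟨a, h1, ?_⟩
  rw [cycle_is_cycleOf ha' hc]
  exact (cycle_is_cycleOf (by rw [support_swap h1.symm]; simp) (h.swap_mem h1)).symm

theorem Pairing.surj (h : Pairing τ) : Function.Surjective (OnCycleFactors.toPermHom τ) := by
  intro σ
  have : σ ∈ (OnCycleFactors.toPermHom τ).range := by
    rw [OnCycleFactors.mem_range_toPermHom_iff]
    intro c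
    obtain ⟨a, ha, e⟩ := h.eq_swap c.2
    obtain ⟨b, hb, e'⟩ := h.eq_swap (σ c).2
    rw [e, e', card_support_swap ha.symm, card_support_swap hb.symm]
  exact this

theorem Pairing.ker_sq (h : Pairing τ) {k : centralizer ({τ} : Set (Perm α))}
    (hk : k ∈ (OnCycleFactors.toPermHom τ).ker) : k ^ 2 = 1 := by
  rw [OnCycleFactors.mem_ker_toPermHom_iff] at hk
  have hc : ∀ a, (k : Perm α) (τ a) = τ ((k : Perm α) a) := fun a => by
    have := mem_centralizer_singleton_iff.mp k.2
    exact congrArg (fun f : Perm α => f a) this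
  ext a
  simp only [sq, Subgroup.coe_mul, coe_mul, Function.comp, OneMemClass.coe_one, coe_one, id]
  by_cases ha : τ a = a
  · have h1 : (k : Perm α) a = a := h.fix _ _ (by rw [← hc, ha]) ha
    rw [h1, h1]
  · have h1 := congrArg (fun f : Perm α => f a) (hk _ (h.swap_mem ha)).eq
    simp only [coe_mul, Function.comp, swap_apply_left] at h1
    by_cases h2 : (k : Perm α) a = a
    · rw [h2, h2]
    by_cases h3 : (k : Perm α) a = τ a
    · rw [h3, hc, h3, h.inv]
    rw [swap_apply_of_ne_of_ne h2 h3] at h1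
    exact absurd ((k : Perm α).injective h1) ha

theorem Pairing.swap_mem_ker (h : Pairing τ) {a : α} (ha : τ a ≠ a) :
    (⟨swap a (τ a), mem_centralizer_singleton_iff.mpr (h.swap_comm a).eq⟩ :
      centralizer ({τ} : Set (Perm α))) ∈ (OnCycleFactors.toPermHom τ).ker := by
  rw [OnCycleFactors.mem_ker_toPermHom_iff]
  intro c hc
  by_cases e : swap a (τ a) = c
  · rw [← e]
  · exact (cycleFactorsFinset_pairwise_disjoint τ (h.swap_mem ha) hc e).commute

theorem swap_eq_of_two {T : Subgroup (Perm α)} (hT : IsPGroup 2 T) {x y z : α} (hy : y ≠ x) (hz : z ≠ x)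
    (h1 : swap x y ∈ T) (h2 : swap x z ∈ T) : y = z := by
  by_contra hyz
  obtain ⟨k, hk⟩ := hT ⟨_, mul_mem h1 h2⟩
  have h3 : (swap x y * swap x z) ^ 3 = 1 := by
    rw [← (isThreeCycle_swap_mul_swap_same hy.symm hz.symm hyz).orderOf, pow_orderOf_eq_one]
  have h4 : (swap x y * swap x z) ^ (2 ^ k) = 1 := congrArg Subtype.val hk
  have h5 : swap x y * swap x z = 1 := by
    have := pow_gcd_eq_one.mpr ⟨h3, h4⟩
    rwa [Nat.Coprime.gcd_eq_one (Nat.Coprime.pow_right k (by norm_num)), pow_one] at this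
  have := congrArg (fun f : Perm α => f z) h5
  simp only [coe_mul, Function.comp, swap_apply_right, swap_apply_left, coe_one, id] at this
  exact hyz this

theorem Pairing.le_centralizer (h : Pairing τ) {T : Subgroup (Perm α)} (hT : IsPGroup 2 T)
    (hs : ∀ a, τ a ≠ a → swap a (τ a) ∈ T) : T ≤ centralizer {τ} := by
  have key : ∀ t ∈ T, ∀ a, τ a ≠ a → τ (t a) ≠ t a → t (τ a) = τ (t a) := fun t ht a ha hb => by
    refine swap_eq_of_two hT (x := t a) (fun e => ha (t.injective e)) hb ?_ (hs _ hb)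
    rw [swap_apply_apply]
    exact mul_mem (mul_mem ht (hs a ha)) (inv_mem ht)
  have key2 : ∀ t ∈ T, ∀ a, τ a ≠ a → τ (t a) ≠ t a := fun t ht a ha hb => by
    have h1 : τ (t (τ a)) ≠ t (τ a) := fun e => ha (t.injective (h.fix _ _ e hb))
    have h2 := key t ht (τ a) (by rw [h.inv]; exact fun e => ha e.symm) h1
    rw [h.inv] at h2
    have h3 : t (τ a) = t a := by rw [← h.inv (t (τ a)), ← h2, hb]
    exact ha (t.injective h3)
  intro t ht
  rw [mem_centralizer_singleton_iff]
  ext a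
  simp only [coe_mul, Function.comp]
  by_cases ha : τ a = a
  · rw [ha]
    by_contra h1
    have := key2 t⁻¹ (inv_mem ht) (t a) (fun e => h1 e.symm)
    simp [ha] at this
  · exact key t ht a ha (key2 t ht a ha)

omit [Fintype α] [DecidableEq α] in
theorem Pairing.norm_le (h : Pairing τ) {S : Subgroup (Perm α)} (hS : S ≤ centralizer {τ})
    (h1 : ∀ a, τ a ≠ a → ∃ s ∈ S, s a ≠ a)
    (h2 : ∀ a b, τ a ≠ a → τ b ≠ b → b ≠ a → b ≠ τ a → ∃ s ∈ S, s a = a ∧ s b ≠ b) :
    normalizer (S : Set (Perm α)) ≤ centralizer {τ} := by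
  have hc : ∀ s ∈ S, ∀ a, s (τ a) = τ (s a) := fun s hs a =>
    congrArg (fun f : Perm α => f a) (mem_centralizer_singleton_iff.mp (hS hs))
  have key : ∀ g ∈ normalizer (S : Set (Perm α)), ∀ a, τ a = a → τ (g a) = g a := fun g hg a ha => by
    by_contra h3
    obtain ⟨s, hs, e⟩ := h1 _ h3
    have h4 : g⁻¹ * s * g ∈ S := by
      have := (mem_normalizer_iff.mp (inv_mem hg) s).mp hs
      simpa using this
    have h5 : (g⁻¹ * s * g) a = a := h.fix _ _ (by rw [← hc _ h4, ha]) ha
    apply e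
    simp only [Perm.coe_mul, Function.comp] at h5
    exact Perm.inv_eq_iff_eq.mp h5
  intro g hg
  rw [mem_centralizer_singleton_iff]
  ext a
  simp only [Perm.coe_mul, Function.comp]
  by_cases ha : τ a = a
  · rw [ha, key g hg a ha]
  have nf : ∀ b, τ b ≠ b → τ (g b) ≠ g b := fun b hb e => by
    have := key g⁻¹ (inv_mem hg) _ e
    simp [hb] at this
  by_contra h3
  obtain ⟨s, hs, e1, e2⟩ := h2 (g a) (g (τ a)) (nf a ha) (nf _ (by rw [h.inv]; exact fun e => ha e.symm))
    (fun e => ha (g.injective e)) h3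
  have h4 : g⁻¹ * s * g ∈ S := by
    have := (mem_normalizer_iff.mp (inv_mem hg) s).mp hs
    simpa using this
  have h5 := hc _ h4 a
  simp only [Perm.coe_mul, Function.comp, e1] at h5
  apply e2
  rw [Perm.inv_eq_iff_eq.mp h5]; simp

theorem Pairing.exists_sylow (h : Pairing τ) : ∃ T : Sylow 2 (Perm α),
    (T : Subgroup (Perm α)) ≤ centralizer {τ} ∧ (∀ a, τ a ≠ a → swap a (τ a) ∈ T) ∧
      (OnCycleFactors.toPermHom τ).ker ≤ (T : Subgroup (Perm α)).subgroupOf (centralizer {τ}) := by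
  have h1 : IsPGroup 2 (OnCycleFactors.toPermHom τ).ker := fun k =>
    ⟨1, Subtype.ext (by simpa using h.ker_sq k.2)⟩
  obtain ⟨T, hT⟩ := (h1.map (centralizer ({τ} : Set (Perm α))).subtype).exists_le_sylow
  have h2 : ∀ a, τ a ≠ a → swap a (τ a) ∈ T := fun a ha => hT ⟨_, h.swap_mem_ker ha, rfl⟩
  exact ⟨T, h.le_centralizer T.isPGroup' h2, h2, fun k hk => hT ⟨k, hk, rfl⟩⟩

theorem Pairing.card_lt (h : Pairing τ) [Nonempty α] :
    Fintype.card τ.cycleFactorsFinset < Fintype.card α := by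
  have h1 := sum_cycleType τ
  have h2 : τ.cycleType.card = Fintype.card τ.cycleFactorsFinset := by
    rw [cycleType_def]; simp
  have h3 : τ.cycleType.card • 2 ≤ τ.cycleType.sum :=
    Multiset.card_nsmul_le_sum fun x hx => two_le_of_mem_cycleType hx
  have h4 := Finset.card_le_univ τ.support
  have h5 : 0 < Fintype.card α := Fintype.card_pos
  rw [smul_eq_mul] at h3
  omega

/-- the step: an element of `C(τ)` normalising `S` with `π S = π T` lies in `T` -/
theorem Pairing.step (h : Pairing τ) (T : Sylow 2 (Perm α)) (hT : (T : Subgroup (Perm α)) ≤ centralizer {τ})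
    (hk : (OnCycleFactors.toPermHom τ).ker ≤ (T : Subgroup (Perm α)).subgroupOf (centralizer {τ}))
    (ih : ∀ U : Sylow 2 (Perm τ.cycleFactorsFinset),
      normalizer ((U : Subgroup (Perm τ.cycleFactorsFinset)) : Set (Perm τ.cycleFactorsFinset)) ≤ U)
    {S : Subgroup (Perm α)} (hS : S ≤ T)
    (hST : ∀ t ∈ T, ∃ s ∈ S, ∃ k ∈ (OnCycleFactors.toPermHom τ).ker, t = s * k)
    {g : Perm α} (hg : g ∈ centralizer ({τ} : Set (Perm α))) (hn : g ∈ normalizer (S : Set (Perm α))) :
    g ∈ T := by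
  set C := centralizer ({τ} : Set (Perm α))
  set π := OnCycleFactors.toPermHom τ
  let U := (T.subtype hT).mapSurjective h.surj
  have hU : (U : Subgroup _) = (S.subgroupOf C).map π := by
    apply le_antisymm
    · rintro _ ⟨t, ht, rfl⟩
      obtain ⟨s, hs, k, hk, e⟩ := hST t ht
      refine ⟨⟨s, hT (hS hs)⟩, hs, ?_⟩
      have : t = ⟨s, hT (hS hs)⟩ * k := Subtype.ext e
      rw [this, map_mul, MonoidHom.mem_ker.mp hk, mul_one]
    · rintro _ ⟨s, hs, rfl⟩
      exact ⟨s, hS hs, rfl⟩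
  have h1 : π ⟨g, hg⟩ ∈ normalizer ((U : Subgroup (Perm τ.cycleFactorsFinset)) : Set _) := by
    rw [hU]
    refine le_normalizer_map π ⟨⟨g, hg⟩, ?_, rfl⟩
    rw [SetLike.mem_coe, mem_normalizer_iff]
    intro x
    exact mem_normalizer_iff.mp hn x
  obtain ⟨t, ht, e⟩ := ih U h1
  have h2 : t⁻¹ * ⟨g, hg⟩ ∈ π.ker := by
    rw [MonoidHom.mem_ker, map_mul, map_inv, e, inv_mul_cancel]
  have h3 := mul_mem (show t ∈ (T : Subgroup (Perm α)).subgroupOf C from ht) (hk h2)
  rw [mul_inv_cancel_left] at h3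
  exact h3

end Pair

theorem selfnorm_of_one {G : Type*} [Group G] [Finite G] {p : ℕ} [Fact p.Prime] (T : Sylow p G)
    (h : normalizer ((T : Subgroup G) : Set G) ≤ T) (U : Sylow p G) :
    normalizer ((U : Subgroup G) : Set G) ≤ U := by
  obtain ⟨g, rfl⟩ := MulAction.exists_smul_eq G T U
  rw [Sylow.coe_subgroup_smul, H2.normalizer_conj_smul]
  exact H2.conj_smul_mono g h

theorem sylow_two_perm_selfnorm (n : ℕ) : ∀ (α : Type) [Fintype α] [DecidableEq α], Fintype.card α = n →
    ∀ T : Sylow 2 (Perm α), normalizer ((T : Subgroup (Perm α)) : Set (Perm α)) ≤ T := by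
  induction n using Nat.strong_induction_on with
  | _ n ih =>
    intro α _ _ hn
    rcases isEmpty_or_nonempty α with h0 | h0
    · intro T g _
      rw [Subsingleton.elim g 1]; exact one_mem _
    obtain ⟨τ, h⟩ := exists_pairing (α := α)
    obtain ⟨T, h1, h2, h3⟩ := h.exists_sylow
    refine selfnorm_of_one T fun g hg => ?_
    refine h.step T h1 h3 (ih _ (hn ▸ h.card_lt) _ rfl) le_rfl
      (fun t ht => ⟨t, ht, 1, one_mem _, by simp⟩) (h.norm_le h1 ?_ ?_ hg) hg
    · exact fun a ha => ⟨_, h2 a ha, by simpa using ha⟩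
    · refine fun a b ha hb h4 h5 => ⟨_, h2 b hb, swap_apply_of_ne_of_ne h4.symm ?_, by simpa using hb⟩
      intro e
      exact h5 (by rw [e, h.inv])

theorem exists_third {α : Type} [Fintype α] [DecidableEq α] {τ : Perm α} (h : Pairing τ)
    (h6 : 6 ≤ Fintype.card α) (a b : α) :
    ∃ c, τ c ≠ c ∧ c ≠ a ∧ c ≠ τ a ∧ c ≠ b ∧ c ≠ τ b := by
  by_contra hc
  push Not at hc
  have h1 : (Finset.univ : Finset α) ⊆ Finset.univ.filter (fun c => τ c = c) ∪ {a, τ a, b, τ b} := by
    intro c _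
    by_cases e : τ c = c
    · simp [e]
    · have := hc c e
      simp only [Finset.mem_union, Finset.mem_filter, Finset.mem_univ, true_and, Finset.mem_insert,
        Finset.mem_singleton]
      tauto
  have h2 : (Finset.univ.filter (fun c => τ c = c)).card ≤ 1 :=
    Finset.card_le_one.mpr fun x hx y hy => h.fix _ _ (by simpa using hx) (by simpa using hy)
  have h3 : ({a, τ a, b, τ b} : Finset α).card ≤ 4 := Finset.card_le_four
  have h4 := (Finset.card_le_card h1).trans (Finset.card_union_le _ _)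
  rw [Finset.card_univ] at h4
  omega

theorem sylow_two_alt_selfnorm {α : Type} [Fintype α] [DecidableEq α] (h6 : 6 ≤ Fintype.card α)
    (S : Sylow 2 (alternatingGroup α)) :
    normalizer ((S : Subgroup (alternatingGroup α)) : Set (alternatingGroup α)) ≤ S := by
  obtain ⟨τ, h⟩ := exists_pairing (α := α)
  obtain ⟨T, h1, h2, h3⟩ := h.exists_sylow
  have h4 := (Core.isSylowOf_sylow_inf_normal T (alternatingGroup α)).subgroupOf le_rfl
  rw [subgroupOf_self] at h4
  obtain ⟨S', hS'⟩ := h4.exists_sylow_top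
  refine selfnorm_of_one S' (fun g hg => ?_) S
  rw [hS'] at hg ⊢
  have hn : (g : Perm α) ∈ normalizer ((T ⊓ alternatingGroup α : Subgroup (Perm α)) : Set (Perm α)) := by
    have := le_normalizer_map (alternatingGroup α).subtype ⟨g, hg, rfl⟩
    rwa [subgroupOf_map_subtype, inf_assoc, inf_idem] at this
  have dbl : ∀ b c, τ b ≠ b → τ c ≠ c → swap b (τ b) * swap c (τ c) ∈
      (T ⊓ alternatingGroup α : Subgroup (Perm α)) := fun b c hb hc =>
    ⟨mul_mem (h2 b hb) (h2 c hc), by simp [sign_swap hb.symm, sign_swap hc.symm]⟩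
  have : Nonempty α := Fintype.card_pos_iff.mp (by omega)
  refine ⟨h.step T h1 h3 (sylow_two_perm_selfnorm _ _ rfl) inf_le_left (fun t ht => ?_)
    (h.norm_le (inf_le_left.trans h1) ?_ ?_ hn) hn, g.2⟩
  · by_cases e : sign t = 1
    · exact ⟨t, ⟨ht, e⟩, 1, one_mem _, by simp⟩
    obtain ⟨c, hc, -⟩ := exists_third h h6 (Classical.arbitrary α) (Classical.arbitrary α)
    refine ⟨t * swap c (τ c), ⟨mul_mem ht (h2 c hc), ?_⟩, _, h.swap_mem_ker hc, by simp⟩
    refine mem_alternatingGroup.mpr ?_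
    rw [Perm.sign_mul, sign_swap hc.symm]
    rcases Int.units_eq_one_or (sign t) with e' | e'
    · exact absurd e' e
    · rw [e']; simp
  · intro a ha
    obtain ⟨c, hc, h5, h6, -⟩ := exists_third h h6 a a
    refine ⟨_, dbl a c ha hc, ?_⟩
    rw [Perm.mul_apply, swap_apply_of_ne_of_ne h5.symm (fun e => h6 (by rw [e, h.inv]))]
    simpa using ha
  · intro a b ha hb h4 h5
    obtain ⟨c, hc, h6, h7, h8, h9⟩ := exists_third h h6 a b
    refine ⟨_, dbl b c hb hc, ?_, ?_⟩
    · rw [Perm.mul_apply, swap_apply_of_ne_of_ne h6.symm (fun e => h7 (by rw [e, h.inv])),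
        swap_apply_of_ne_of_ne h4.symm (fun e => h5 (by rw [e, h.inv]))]
    · rw [Perm.mul_apply, swap_apply_of_ne_of_ne h8.symm (fun e => h9 (by rw [e, h.inv]))]
      simpa using hb

theorem pron_of_sylow {G : Type*} [Group G] [Finite G] {p : ℕ} [Fact p.Prime] (S : Sylow p G)
    {H : Subgroup G} (hS : (S : Subgroup G) ≤ H)
    (hN : normalizer ((S : Subgroup G) : Set G) ≤ normalizer (H : Set G)) : Cfsg.IsPronormal H := by
  intro g
  change ∃ x ∈ H ⊔ MulAut.conj g • H, MulAut.conj g • H = MulAut.conj x • H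
  have h1 := Core.isSylowOf_sylow_of_le S (hS.trans (le_sup_left : H ≤ H ⊔ MulAut.conj g • H))
  have h2 := Core.isSylowOf_sylow_of_le (g • S) (K := H ⊔ MulAut.conj g • H)
    (le_trans (by rw [Sylow.coe_subgroup_smul]; exact H2.conj_smul_mono g hS) le_sup_right)
  obtain ⟨x, hx, e⟩ := h1.exists_conj_eq h2
  rw [Sylow.coe_subgroup_smul] at e
  refine ⟨x, hx, ?_⟩
  have h3 : x⁻¹ * g ∈ normalizer ((S : Subgroup G) : Set G) := by
    rw [H2.mem_normalizer_iff_conj_smul, map_mul, mul_smul, ← e, map_inv, inv_smul_smul]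
  have h4 := H2.mem_normalizer_iff_conj_smul.mp (hN h3)
  rw [map_mul, mul_smul, map_inv, inv_smul_eq_iff] at h4
  exact h4

theorem pron_of_index {G : Type*} [Group G] [Finite G] {H : Subgroup G}
    (h : H.index = 1 ∨ H.index.Prime) : Cfsg.IsPronormal H := by
  intro g
  change ∃ x ∈ H ⊔ MulAut.conj g • H, MulAut.conj g • H = MulAut.conj x • H
  have h1 := relIndex_mul_index (le_sup_left : H ≤ H ⊔ MulAut.conj g • H)
  have top : (H ⊔ MulAut.conj g • H).index = 1 → _ := fun e =>
    (⟨g, by rw [index_eq_one.mp e]; trivial, rfl⟩ :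
      ∃ x ∈ H ⊔ MulAut.conj g • H, MulAut.conj g • H = MulAut.conj x • H)
  rcases h with h | h
  · rw [h] at h1
    exact top (Nat.eq_one_of_mul_eq_one_left h1)
  rw [← h1] at h
  rcases Nat.prime_mul_iff.mp h with ⟨-, e⟩ | ⟨-, e⟩
  · exact top e
  · refine ⟨1, one_mem _, ?_⟩
    rw [map_one, one_smul]
    have h2 : MulAut.conj g • H ≤ H := le_sup_right.trans (relIndex_eq_one.mp e)
    refine eq_of_le_of_card_ge h2 ?_
    exact (Nat.card_congr (Subgroup.equivSMul (MulAut.conj g) H).toEquiv).le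

end Cfsg.Agent.Spec
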